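import Cfsg.Agent.Nodes.WittAll
import Cfsg.Agent.H911.AdF
import Cfsg.Agent.H61.PSUMult
import Cfsg.Agent.GpUn.Row
import Cfsg.Agent.H906.Cover_m3
import Cfsg.Agent.H948.UMain
import Mathlib
import Cfsg.Agent.H883.Bridge
import Cfsg.Agent.H933.O10.Base_m3
import Cfsg.Agent.Lib.Zsigmondy
import Cfsg.Agent.FastGrp
import Cfsg.Agent.Prune
set_option linter.all false

section
prune_inst 0x7f00000000000000000000000000000000000000000000000000000000000000000000000000000000000000000000000000000000000000000000000000000000000000000000000000000000000000003fffffffffffffffffffffffffffbeffbdffffffff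

-- part: H48/NatSU
section
set_option linter.all false
open scoped Cfsg.Agent.FastGrp

-- part: H48/WittNeg
section
/-!
# The element `-1` of the Weyl group of a Witt frame (helper48)

`M : Model Fr K` with its root group datum of type `C_n` (`rgdC_model`): there are `w0 ∈ W` with `rep w0 = -1` and a
representative `M.φ g` of `w0` with `g` interchanging the lines of `b x` and `b (-x)`.

* `exists_flip`, **`exists_neg`**; `apply_torus` : `g⁻¹ t⁻¹ g b_x = σ(a) b_x` if `t b_x = a b_x`, `t` in the torus.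
-/

set_option autoImplicit false
set_option linter.unusedSectionVars false

namespace Cfsg.Agent.H48.WittNeg

open Cfsg.Agent.ChevalleyStructure.CoxeterGeom Cfsg.Agent.Tits.Roots Cfsg.Agent.Nodes.TypeC
open Cfsg.Agent.Nodes Cfsg.Agent.Nodes.Comb Cfsg.Agent.Nodes.Reps Cfsg.Agent.Nodes.WittRoot Cfsg.Agent.Nodes.BNOf
open Cfsg.Agent.Nodes.WittRGD Cfsg.Agent.Nodes.WittAll Cfsg.Agent.Nodes.RGDLib
open Cfsg.Agent.TitsThree Cfsg.Agent.TitsThree.Siegel Cfsg.Agent.TitsThree.WittFrame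
  Cfsg.Agent.TitsThree.WittWeyl Cfsg.Agent.TitsThree.FrameCN

/-! ### sign changes of the coordinates -/

section Flip

variable {n : ℕ}

/-- sign changes on the signed indices -/
def flip (S : Finset (Fin n)) (x : Fin n × Bool) : Fin n × Bool := if x.1 ∈ S then ng x else x

/-- sign changes on the vectors -/
def fl (S : Finset (Fin n)) (v : Fin n → ℤ) : Fin n → ℤ := fun k => if k ∈ S then -v k else v k

theorem flip_univ (x : Fin n × Bool) : flip Finset.univ x = ng x := if_pos (Finset.mem_univ _)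

theorem fl_univ (v : Fin n → ℤ) : fl Finset.univ v = -v := funext fun _ => if_pos (Finset.mem_univ _)

theorem flip_empty (x : Fin n × Bool) : flip ∅ x = x := if_neg (Finset.notMem_empty _)

theorem fl_empty (v : Fin n → ℤ) : fl ∅ v = v := funext fun _ => if_neg (Finset.notMem_empty _)

theorem flip_insert {S : Finset (Fin n)} {i : Fin n} (hi : i ∉ S) (x : Fin n × Bool) :
    flip {i} (flip S x) = flip (insert i S) x := by
  unfold flip
  by_cases h1 : x.1 ∈ S
  · have h2 : x.1 ≠ i := fun h => hi (h ▸ h1)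
    rw [if_pos h1, if_neg (by rw [ng_fst, Finset.mem_singleton]; exact h2),
      if_pos (Finset.mem_insert_of_mem h1)]
  · rw [if_neg h1]
    by_cases h2 : x.1 = i
    · rw [if_pos (by rw [Finset.mem_singleton]; exact h2), if_pos (by rw [h2]; exact Finset.mem_insert_self _ _)]
    · rw [if_neg (by rw [Finset.mem_singleton]; exact h2), if_neg (by
        rw [Finset.mem_insert, not_or]; exact ⟨h2, h1⟩)]

theorem fl_insert {S : Finset (Fin n)} {i : Fin n} (hi : i ∉ S) (v : Fin n → ℤ) :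
    fl {i} (fl S v) = fl (insert i S) v := by
  funext k
  unfold fl
  by_cases h1 : k ∈ S
  · have h2 : k ≠ i := fun h => hi (h ▸ h1)
    rw [if_neg (by rw [Finset.mem_singleton]; exact h2), if_pos h1, if_pos (Finset.mem_insert_of_mem h1)]
  · by_cases h2 : k = i
    · rw [if_pos (by rw [Finset.mem_singleton]; exact h2), if_neg h1,
        if_pos (by rw [h2]; exact Finset.mem_insert_self _ _)]
    · rw [if_neg (by rw [Finset.mem_singleton]; exact h2), if_neg h1, if_neg (by
        rw [Finset.mem_insert, not_or]; exact ⟨h2, h1⟩)]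

/-- the simple reflection on vectors -/
def rf (i : Fin n) (v : Fin n → ℤ) : Fin n → ℤ := v - Cf i v • bt i

theorem rf_last {i : Fin n} (hi : ¬ (i : ℕ) + 1 < n) (v : Fin n → ℤ) : rf i v = fl {i} v := by
  funext k
  unfold rf fl Cf
  rw [Pi.sub_apply, Pi.smul_apply, bt_apply, dif_neg hi, if_neg hi, smul_eq_mul]
  by_cases h : k = i
  · subst h
    rw [if_pos (Finset.mem_singleton_self _), if_pos rfl]; ring
  · have h' : ¬ (k : ℕ) = i := fun h' => h (Fin.ext h')
    simp [h, h']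

theorem rf_up {i : Fin n} (hi : (i : ℕ) + 1 < n) (v : Fin n → ℤ) (k : Fin n) :
    rf i v k = if k = i then v ⟨i + 1, hi⟩ else if k = ⟨i + 1, hi⟩ then v i else v k := by
  unfold rf Cf
  rw [Pi.sub_apply, Pi.smul_apply, bt_apply, dif_pos hi, if_pos hi, smul_eq_mul]
  by_cases h : k = i
  · subst h
    rw [if_pos rfl, if_pos rfl]; ring
  · rw [if_neg (fun h' => h (Fin.ext h')), if_neg h]
    by_cases h2 : k = ⟨i + 1, hi⟩
    · subst h2
      rw [if_pos rfl, if_pos rfl]; ring
    · rw [if_neg (fun h' => h2 (Fin.ext h')), if_neg h2]; ring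

theorem rf_fl {i : Fin n} (hi : (i : ℕ) + 1 < n) (v : Fin n → ℤ) :
    rf i (fl {⟨i + 1, hi⟩} (rf i v)) = fl {i} v := by
  have hne : (⟨(i : ℕ) + 1, hi⟩ : Fin n) ≠ i := by simp [Fin.ext_iff]
  funext k
  rw [rf_up hi]
  unfold fl
  rw [rf_up hi, rf_up hi, rf_up hi]
  simp only [Finset.mem_singleton]
  by_cases h : k = i
  · subst h
    simp [hne, hne.symm]
  · by_cases h2 : k = ⟨i + 1, hi⟩
    · subst h2
      simp [hne, hne.symm]
    · simp [h, h2]

theorem sg_flip {i : Fin n} (hi : (i : ℕ) + 1 < n) (x : Fin n × Bool) :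
    sg i (flip {⟨i + 1, hi⟩} (sg i x)) = flip {i} x := by
  have hne : (⟨(i : ℕ) + 1, hi⟩ : Fin n) ≠ i := by simp [Fin.ext_iff]
  obtain ⟨k, s⟩ := x
  unfold flip
  simp only [Finset.mem_singleton]
  by_cases h : k = i
  · subst h
    rw [sg_up hi]
    simp only [if_true, ng]
    rw [sg_down hi]
  · by_cases h2 : k = ⟨i + 1, hi⟩
    · subst h2
      rw [sg_down hi]
      simp only [hne, hne.symm, if_false]
      rw [sg_up hi]
    · have h3 : sg i (k, s) = (k, s) := sg_of_ne h (fun h' => h2 (Fin.ext h'))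
      rw [h3]
      simp only [h, h2, if_false]
      rw [h3]

theorem sg_flip_last {i : Fin n} (hi : ¬ (i : ℕ) + 1 < n) (x : Fin n × Bool) : sg i x = flip {i} x := by
  obtain ⟨k, s⟩ := x
  unfold flip
  simp only [Finset.mem_singleton]
  by_cases h : k = i
  · subst h
    rw [sg_last hi, if_pos rfl]
    rfl
  · rw [if_neg h]
    exact sg_of_ne h (fun h' => by have := k.2; simp only at h'; omega)

end Flip

/-! ### the model -/

section Model

variable {F : Type*} [Field F] {V : Type*} [AddCommGroup V] [Module F V] {H : HForm F V} {n : ℕ}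
  {Fr : Frame H (Fin n)} {K : Type*} [Group K] {M : Model Fr K} {p : ℕ}

theorem ee_rep {W : Type*} [Group W] (cs : CoxeterSystem (CoxeterMatrix.B n) W) (i : Fin n) (x : Fin n → ℤ) :
    ee (rep cs (isCartan n) (cs.simple i) x) = rf i (ee x) := by
  rw [rep_simple, ee_refl]
  rfl

variable (hA : AmbT Fr p M.I) [Finite V] [Fact p.Prime] [CharP F p] {p0 : Fr.Adm} (hp0 : p0.c ≠ 0)
  {W : Type*} [Group W] (cs : CoxeterSystem (CoxeterMatrix.B n) W)

include hA in
theorem exists_flip_single (d : ℕ) : ∀ i : Fin n, (i : ℕ) + d + 1 = n →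
    ∃ (u : W) (g : V ≃ₗ[F] V) (hg : g ∈ M.I), Rp cs (rgdC_model M hA hp0 cs).nsys u (M.φ ⟨g, hg⟩) ∧
      Mono Fr g (flip {i}) ∧ ∀ x, ee (rep cs (isCartan n) u x) = fl {i} (ee x) := by
  induction d with
  | zero =>
    intro i hi
    have hi' : ¬ (i : ℕ) + 1 < n := by omega
    exact ⟨cs.simple i, nn Fr p0 i, nn_mem hA p0 i, rp_simple cs _ i,
      (mono_nn hp0 i).congr (sg_flip_last hi'), fun x => by rw [ee_rep, rf_last hi']⟩
  | succ d ih =>
    intro i hi
    have hi' : (i : ℕ) + 1 < n := by omega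
    obtain ⟨u, g, hg, h1, h2, h3⟩ := ih ⟨i + 1, hi'⟩ (by simp only; omega)
    refine ⟨cs.simple i * u * cs.simple i, nn Fr p0 i * g * nn Fr p0 i,
      mul_mem (mul_mem (nn_mem hA p0 i) hg) (nn_mem hA p0 i), ?_, ?_, ?_⟩
    · have h4 := ((rp_simple cs (rgdC_model M hA hp0 cs).nsys i).mul h1).mul
        (rp_simple cs (rgdC_model M hA hp0 cs).nsys i)
      rw [← map_mul, ← map_mul] at h4
      exact h4
    · exact (((mono_nn hp0 i).mul h2).mul (mono_nn hp0 i)).congr fun x => sg_flip hi' x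
    · intro x
      rw [map_mul, Module.End.mul_apply, map_mul, Module.End.mul_apply, ee_rep, h3, ee_rep, rf_fl hi']

include hA in
theorem exists_flip (S : Finset (Fin n)) :
    ∃ (u : W) (g : V ≃ₗ[F] V) (hg : g ∈ M.I), Rp cs (rgdC_model M hA hp0 cs).nsys u (M.φ ⟨g, hg⟩) ∧
      Mono Fr g (flip S) ∧ ∀ x, ee (rep cs (isCartan n) u x) = fl S (ee x) := by
  induction S using Finset.induction_on with
  | empty =>
    refine ⟨1, 1, one_mem _, ?_, Mono.one.congr fun x => (flip_empty x).symm, fun x => ?_⟩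
    · have h1 : M.φ ⟨1, one_mem _⟩ = 1 := map_one M.φ
      rw [h1]
      exact rp_one
    · rw [map_one, fl_empty]
      rfl
  | insert i S hi ih =>
    obtain ⟨u, g, hg, h1, h2, h3⟩ := ih
    obtain ⟨u', g', hg', h1', h2', h3'⟩ := exists_flip_single hA hp0 cs (n - 1 - i) i (by have := i.2; omega)
    refine ⟨u' * u, g' * g, mul_mem hg' hg, ?_, (h2'.mul h2).congr fun x => flip_insert hi x, fun x => ?_⟩
    · have h4 := h1'.mul h1
      rw [← map_mul] at h4
      exact h4
    · rw [map_mul, Module.End.mul_apply, h3', h3, fl_insert hi]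

include hA in
/-- **The element `-1`.** -/
theorem exists_neg : ∃ (w0 : W) (g : V ≃ₗ[F] V) (hg : g ∈ M.I), (∀ x, rep cs (isCartan n) w0 x = -x) ∧
    Rp cs (rgdC_model M hA hp0 cs).nsys w0 (M.φ ⟨g, hg⟩) ∧ Mono Fr g ng := by
  obtain ⟨u, g, hg, h1, h2, h3⟩ := exists_flip hA hp0 cs Finset.univ
  refine ⟨u, g, hg, fun x => ?_, h1, h2.congr flip_univ⟩
  apply ee_injective
  rw [h3, fl_univ, ee_neg]

end Model

section Torus

variable {F : Type*} [Field F] {V : Type*} [AddCommGroup V] [Module F V] {H : HForm F V} {n : ℕ}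
  {Fr : Frame H (Fin n)}

/-- an isometry with `t b_x = a b_x` and `t b_{-x} = a' b_{-x}` : `a' σ(a) = 1`-/
theorem mul_eq_one {t : V ≃ₗ[F] V} (ht : H.IsIso t) {x : Fin n × Bool} {a a' : F} (h1 : t (Fr.b x) = a • Fr.b x)
    (h2 : t (Fr.b (ng x)) = a' • Fr.b (ng x)) : a' * H.σ a = 1 := by
  have h3 := ht (Fr.b (ng x)) (Fr.b x)
  rw [h1, h2, H.smul_left, H.smul_right] at h3
  have h4 : H.h (Fr.b (ng x)) (Fr.b x) = Fr.η x := Fr.hb_neg_self x
  rw [h4] at h3
  have h5 := Fr.η_ne x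
  have h6 : (a' * H.σ a) * Fr.η x = 1 * Fr.η x := by rw [one_mul]; linear_combination h3
  exact mul_right_cancel₀ h5 h6

/-- **`g⁻¹ t⁻¹ g b_x = σ(a) b_x`** -/
theorem apply_torus {t g : V ≃ₗ[F] V} (ht : H.IsIso t) (htm : Mono Fr t id) (hg : Mono Fr g ng)
    {x : Fin n × Bool} {a : F} (h1 : t (Fr.b x) = a • Fr.b x) : (g⁻¹ * t⁻¹ * g) (Fr.b x) = H.σ a • Fr.b x := by
  obtain ⟨l, hl, e⟩ := hg x
  obtain ⟨a', ha', e'⟩ := htm (ng x)
  have e1 : t (Fr.b (ng x)) = a' • Fr.b (ng x) := e'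
  have h2 := mul_eq_one ht h1 e1
  have h3 : a'⁻¹ = H.σ a := by
    rw [inv_eq_iff_eq_inv]
    exact eq_inv_of_mul_eq_one_left h2
  have h4 : t⁻¹ (Fr.b (ng x)) = a'⁻¹ • Fr.b (ng x) := by
    have h5 : t⁻¹ (t (Fr.b (ng x))) = Fr.b (ng x) := by
      rw [← mul_apply', inv_mul_cancel]; rfl
    rw [e1, map_smul] at h5
    rw [← h5, smul_smul, inv_mul_cancel₀ ha', one_smul, h5]
  have h6 : g⁻¹ (Fr.b (ng x)) = l⁻¹ • Fr.b x := by
    have h5 : g⁻¹ (g (Fr.b x)) = Fr.b x := by
      rw [← mul_apply', inv_mul_cancel]; rfl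
    rw [e, map_smul] at h5
    rw [← h5, smul_smul, inv_mul_cancel₀ hl, one_smul]
  rw [mul_apply', mul_apply', e, map_smul, h4, map_smul, map_smul, h6, smul_smul, smul_smul, h3]
  congr 1
  field_simp

end Torus

end Cfsg.Agent.H48.WittNeg
end

-- part: H48/NatSU
section
/-!
# Cores with the simple group `PSU_N(q)`, `q` a power of the characteristic of the field of definition (helper48)

* `rgd_neg_torus` : in the root group datum of `SU_N(q)` : `w⁻¹ t⁻¹ w = t^q` on the torus, `w` over `-1`;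
* **`psu_cover`** : `SU_N(q)` maps onto `P`; **`psu_cj`** : `tr(g⁻¹) = tr(g)^q` on `P`.
-/

set_option autoImplicit false
set_option linter.unusedSectionVars false

namespace Cfsg.Agent.H48.NatSU

open Matrix (SpecialLinearGroup)
open Cfsg Cfsg.Agent.LieClassical.HermBasic Cfsg.Agent.LieClassical.HermSiegel
open Cfsg.Agent.ChevalleyStructure.CoxeterGeom Cfsg.Agent.Tits.Roots
open Cfsg.Agent.TitsThree Cfsg.Agent.TitsThree.Siegel Cfsg.Agent.TitsThree.SiegelGen
  Cfsg.Agent.TitsThree.WittFrame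
  Cfsg.Agent.TitsThree.WittWeyl Cfsg.Agent.TitsThree.WBridge Cfsg.Agent.TitsThree.KSideU
  Cfsg.Agent.TitsThree.KSideUDesc Cfsg.Agent.TitsThree.FrameCN
open Cfsg.Agent.Nodes Cfsg.Agent.Nodes.WittRoot Cfsg.Agent.Nodes.WittRGD Cfsg.Agent.Nodes.TypeC
  Cfsg.Agent.Nodes.WittAll Cfsg.Agent.Nodes.WittU Cfsg.Agent.Nodes.BNOf Cfsg.Agent.Nodes.Reps
  Cfsg.Agent.Nodes.RGDLib
open Cfsg.Agent.H61.SUCross Cfsg.Agent.H48.WittNeg

/-! ### frames -/

section Frame

variable {F : Type*} [Field F] {V : Type*} [AddCommGroup V] [Module F V] {H : HForm F V} {n : ℕ}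
  {Fr : Frame H (Fin n)} {G0 : Subgroup (V ≃ₗ[F] V)}

theorem eq_of_fix (hA : Amb Fr G0) {g g' : V ≃ₗ[F] V} (hb : ∀ x, g (Fr.b x) = g' (Fr.b x))
    (h0 : ∀ w ∈ Fr.V0, g w = g' w) : g = g' := by
  have h1 : g'⁻¹ * g = 1 := by
    refine WittRGD.Amb.eq_one_of_fix hA (fun x => ?_) (fun w hw => ?_)
    · rw [mul_apply', hb, ← mul_apply', inv_mul_cancel]; rfl
    · rw [mul_apply', h0 w hw, ← mul_apply', inv_mul_cancel]; rfl
  exact (inv_mul_eq_one.1 h1).symm

theorem pow_apply_smul {g : V ≃ₗ[F] V} {v : V} {a : F} (h : g v = a • v) (j : ℕ) : (g ^ j) v = a ^ j • v := by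
  induction j with
  | zero => rw [pow_zero, pow_zero, one_smul]; rfl
  | succ j ih => rw [pow_succ, mul_apply', h, map_smul, ih, smul_smul, pow_succ, mul_comm]

theorem inv_apply_smul {g : V ≃ₗ[F] V} {v : V} {a : F} (ha : a ≠ 0) (h : g v = a • v) : g⁻¹ v = a⁻¹ • v := by
  have h1 : a • g⁻¹ v = v := by
    have h2 : g⁻¹ (g v) = v := by rw [← mul_apply', inv_mul_cancel]; rfl
    rwa [h, map_smul] at h2
  calc g⁻¹ v = a⁻¹ • (a • g⁻¹ v) := by rw [smul_smul, inv_mul_cancel₀ ha, one_smul]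
    _ = a⁻¹ • v := by rw [h1]

end Frame

section SU

variable {F : Type*} [Field F] [Fintype F] {q N m : ℕ} {hF : Fintype.card F = q ^ 2} {W : WFrame (PU hF N) m}

/-- a monomial isometry acts on `V0` by a scalar of norm one -/
theorem exists_scal (hK : Kind W) {g : (Fin N → F) ≃ₗ[F] (Fin N → F)} (hg : g ∈ IU F q N)
    {π ρ : Fin m × Bool → Fin m × Bool} (hm : Mono (toFrame W) g π) (hρ : ∀ x, π (ρ x) = x) :
    ∃ ν : F, ν * ν ^ q = 1 ∧ ∀ w ∈ (toFrame W).V0, g w = ν • w := by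
  rcases hK with hK | ⟨d, hd, hK⟩
  · refine ⟨1, by rw [one_pow, mul_one], fun w hw => ?_⟩
    have h1 : w ∈ W.V0 := hw
    rw [hK, Submodule.mem_bot] at h1
    rw [h1, map_zero, smul_zero]
  · have hdV : d ∈ (toFrame W).V0 := by
      change d ∈ W.V0
      rw [hK]; exact Submodule.mem_span_singleton_self d
    have h1 : g d ∈ W.V0 := (amb_U hF W).map_V0 hg hm hρ hdV
    rw [hK, Submodule.mem_span_singleton] at h1
    obtain ⟨ν, hν⟩ := h1
    refine ⟨ν, ?_, fun w hw => ?_⟩
    · have h2 := isIso_IU hF hg d d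
      rw [← hν, HU_h, herm_smul_left, herm_smul_right, HU_h, hd] at h2
      linear_combination h2
    · have h2 : w ∈ W.V0 := hw
      rw [hK, Submodule.mem_span_singleton] at h2
      obtain ⟨a, rfl⟩ := h2
      rw [map_smul, ← hν, smul_comm]

theorem tor_comm (hK : Kind W) {s t : (Fin N → F) ≃ₗ[F] (Fin N → F)} (hs : s ∈ Tor (toFrame W) (IU F q N))
    (ht : t ∈ Tor (toFrame W) (IU F q N)) : s * t = t * s := by
  obtain ⟨ν, -, hν⟩ := exists_scal hK hs.1 hs.2 (ρ := id) (fun _ => rfl)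
  obtain ⟨μ, -, hμ⟩ := exists_scal hK ht.1 ht.2 (ρ := id) (fun _ => rfl)
  refine eq_of_fix (amb_U hF W) (fun x => ?_) (fun w hw => ?_)
  · obtain ⟨a, -, ha⟩ := hs.2 x
    obtain ⟨b, -, hb⟩ := ht.2 x
    have ha' : s ((toFrame W).b x) = a • (toFrame W).b x := ha
    have hb' : t ((toFrame W).b x) = b • (toFrame W).b x := hb
    rw [mul_apply', mul_apply', ha', hb', map_smul, map_smul, ha', hb', smul_comm]
  · rw [mul_apply', mul_apply', hν w hw, hμ w hw, map_smul, map_smul, hν w hw, hμ w hw, smul_comm]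

/-- **`g⁻¹ t⁻¹ g = t^q`** -/
theorem conj_tor (hK : Kind W) {g t : (Fin N → F) ≃ₗ[F] (Fin N → F)} (hg : g ∈ IU F q N)
    (hgm : Mono (toFrame W) g ng) (ht : t ∈ Tor (toFrame W) (IU F q N)) : g⁻¹ * t⁻¹ * g = t ^ q := by
  obtain ⟨ν, hν1, hν⟩ := exists_scal hK hg hgm (ρ := ng) (fun x => ng_ng x)
  obtain ⟨μ, hμ1, hμ⟩ := exists_scal hK ht.1 ht.2 (ρ := id) (fun _ => rfl)
  have hν0 : ν ≠ 0 := left_ne_zero_of_mul_eq_one hν1
  have hμ0 : μ ≠ 0 := left_ne_zero_of_mul_eq_one hμ1
  refine eq_of_fix (amb_U hF W) (fun x => ?_) (fun w hw => ?_)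
  · obtain ⟨a, ha0, ha⟩ := ht.2 x
    have ha' : t ((toFrame W).b x) = a • (toFrame W).b x := ha
    rw [apply_torus (isIso_IU hF ht.1) ht.2 hgm ha', pow_apply_smul ha', HU_σ]
  · rw [mul_apply', mul_apply', hν w hw, map_smul, inv_apply_smul hμ0 (hμ w hw), map_smul, map_smul,
      inv_apply_smul hν0 (hν w hw), pow_apply_smul (hμ w hw), smul_smul, smul_smul]
    congr 1
    have h1 : μ ^ q = μ⁻¹ := (inv_eq_of_mul_eq_one_right hμ1).symm
    rw [h1]
    field_simp

/-- the root group datum of `SU_N(q)` and its element over `-1` -/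
theorem exists_rgd (hF : Fintype.card F = q ^ 2) (hN : 3 ≤ N) {p : ℕ} [hp : Fact p.Prime] [CharP F p] :
    ∃ (m : ℕ) (T : Subgroup (SU N F q)) (n : Fin m → SU N F q) (X : (Fin m → ℤ) → Subgroup (SU N F q))
      (R : RGD (CoxeterMatrix.B m).toCoxeterSystem (isCartan m) p T n X) (w0 : (CoxeterMatrix.B m).Group)
      (w : SU N F q), 0 < m ∧ N ≤ 2 * m + 1 ∧ G1 (CoxeterMatrix.B m).toCoxeterSystem (isCartan m) X = ⊤ ∧
      (∀ s ∈ T, ∀ t ∈ T, s * t = t * s) ∧ (∀ x, rep (CoxeterMatrix.B m).toCoxeterSystem (isCartan m) w0 x = -x) ∧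
      Rp (CoxeterMatrix.B m).toCoxeterSystem R.nsys w0 w ∧ ∀ t ∈ T, w⁻¹ * t⁻¹ * w = t ^ q := by
  obtain ⟨m, hm⟩ : ∃ m, N = 2 * m ∨ N = 2 * m + 1 := ⟨N / 2, by omega⟩
  obtain ⟨W, hK⟩ : ∃ W : WFrame (PU hF N) m, Kind W := by
    rcases hm with hm | hm
    · obtain ⟨W, hW⟩ := exists_wframe_even hF hm
      exact ⟨W, Or.inl hW⟩
    · obtain ⟨W, d, hd, hW⟩ := exists_wframe_odd hF hm
      exact ⟨W, Or.inr ⟨d, hd, hW⟩⟩
  obtain ⟨p0, hp0, -⟩ := exists_adm hF W
  have hA : AmbT (toFrame W) p (modelSU hF hN W).I := AmbT.of_amb (amb_U hF W) p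
  obtain ⟨w0, g, hg, h1, h2, h3⟩ := exists_neg hA hp0 (CoxeterMatrix.B m).toCoxeterSystem
  refine ⟨m, _, _, _, rgdC_model (modelSU hF hN W) hA hp0 (CoxeterMatrix.B m).toCoxeterSystem, w0,
    (modelSU hF hN W).φ ⟨g, hg⟩, by omega, by omega, WittModel.G1_eq_top _ (by omega) _, ?_, h1, h2, ?_⟩
  · rintro _ ⟨s, hs, rfl⟩ _ ⟨t, ht, rfl⟩
    rw [← map_mul, ← map_mul]
    congr 1
    exact Subtype.ext (tor_comm hK (Subgroup.mem_subgroupOf.1 hs) (Subgroup.mem_subgroupOf.1 ht))
  · rintro _ ⟨t, ht, rfl⟩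
    rw [← map_inv, ← map_inv, ← map_mul, ← map_mul, ← map_pow]
    congr 1
    exact Subtype.ext (conj_tor hK hg h3 (Subgroup.mem_subgroupOf.1 ht))

end SU

/-! ### cores -/

section Core

open Matrix Cfsg.Geo Cfsg.Agent.H905.Md Cfsg.Agent.H915.LD

universe u

variable {ι : Type} [Fintype ι] [DecidableEq ι] {F : Type u} [Field F] [Finite F] {P : Subgroup (GL ι F)}
  {K : Type} [Field K] [Fintype K] {q N : ℕ}

/-- **`SU_N(q)` maps onto `P`.** -/
theorem psu_cover (p : ℕ) [hp : Fact p.Prime] [CharP F p] [CharP K p] (hK : Fintype.card K = q ^ 2) (hN : 3 ≤ N)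
    (h32 : ¬ (N = 3 ∧ q = 2)) (hperf : ⁅P, P⁆ = P) (e : (P ⧸ (scalars ι F).subgroupOf P) ≃* PSU N K q) :
    ∃ φ : SU N K q →* GL ι F, φ.range = P ∧ φ.ker ≤ Subgroup.center (SU N K q) ∧
      ∀ g, ∃ hg : φ g ∈ P, prj e ⟨φ g, hg⟩ = QuotientGroup.mk' (Subgroup.center (SU N K q)) g := by
  have hfin : Finite (SU N K q) := inferInstance
  obtain ⟨φ, h1, h2, h3⟩ := exists_cover (p := p) hperf e (GpUn.perfect_SU hK hN h32)
    (fun r hr hne => H61.PSUMult.noPCov_cross hK hN hp.out hr hne)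
    (πG := QuotientGroup.mk' (Subgroup.center (SU N K q))) (QuotientGroup.mk'_surjective _)
    (by rw [QuotientGroup.ker_mk'])
  rw [QuotientGroup.ker_mk'] at h2
  exact ⟨φ, h1, h2, h3⟩

/-- **`tr(g⁻¹) = tr(g)^q`.** -/
theorem psu_cj (hC : Core P) (p : ℕ) [hp : Fact p.Prime] [CharP F p] [CharP K p] (hK : Fintype.card K = q ^ 2)
    (hN : 3 ≤ N) (h32 : ¬ (N = 3 ∧ q = 2)) (e : Soc P ≃* PSU N K q) : Cj P q := by
  obtain ⟨φ, hφ, -, -⟩ := psu_cover p hK hN h32 hC.perfect e
  obtain ⟨m, T, n, X, R, w0, w, hm, -, hG1, hT, hw0, hw, htor⟩ := exists_rgd (p := p) hK hN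
  have hne := hC.nonempty
  have hfin : Finite (SU N K q) := inferInstance
  have hW : Finite (CoxeterMatrix.B m).Group := finite_W (CoxeterMatrix.B m).toCoxeterSystem
  obtain ⟨p', a, hp', hch, hq, ha⟩ := LieClassical.HermBasic.exists_prime_pow hK
  obtain rfl : p' = p := CharP.eq K hch ‹_›
  intro g hg
  have h1 := trace_inv_pow R (gg_eq_top hG1) hT hφ hC.absIrred hw0 hw (a := a) (fun t ht => by
    rw [← hq]; exact htor t ht) hg
  rw [hq]
  exact h1.symm

end Core

end Cfsg.Agent.H48.NatSU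
end
end

-- part: H48/NatSUEq
section
set_option linter.all false
open scoped Cfsg.Agent.FastGrp

/-!
# Recognition of `SU(n, q)` (helper48)

`P ≤ GU(n, q)`, `P / scalars ≃ PSU(m, q₀)`, same characteristic:

* `psu_le` : `q ≤ q₀` and `m ≤ n`;
* **`psu_eq`** : `m = n` implies `q = q₀` and `P = SU(n, q)`.
-/

set_option autoImplicit false
set_option linter.unusedSectionVars false

namespace Cfsg.Agent.H48.NatSU

open Cfsg Cfsg.Geo Matrix Cfsg.Agent.H905.Md Cfsg.Agent.H915.LD

universe u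

variable {n : ℕ} {F : Type u} [Field F] [Fintype F] {P : Subgroup (GL (Fin n) F)} {q : ℕ}

/-- the map `P → SU` -/
def toSU (hC : Core P) (hP : P ≤ GU n F q) : P →* SU n F q where
  toFun g := ⟨⟨(g : GL (Fin n) F).1, by
    have h := hC.det g.2
    exact congrArg Units.val h⟩, fun u v => hP g.2 u v⟩
  map_one' := rfl
  map_mul' := fun _ _ => rfl

theorem toSU_injective (hC : Core P) (hP : P ≤ GU n F q) : Function.Injective (toSU hC hP) := by
  intro x y e
  exact Subtype.ext (Units.ext (congrArg (fun z : SU n F q => z.1.1) e))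

theorem two_le_of_sq {K : Type*} [Field K] [Fintype K] {q : ℕ} (hK : Fintype.card K = q ^ 2) : 2 ≤ q := by
  have h1 := Fintype.one_lt_card (α := K)
  rw [hK] at h1
  by_contra h
  have h2 : q = 0 ∨ q = 1 := by omega
  rcases h2 with rfl | rfl <;> simp at h1

theorem ph_coprime {p q i : ℕ} (hp : p.Prime) (h : p ∣ q) (hq : 2 ≤ q) : p.Coprime (H948.UProd.ph q i) := by
  rw [Nat.Prime.coprime_iff_not_dvd hp]
  intro hd
  have h5 : p ∣ q ^ (i + 1) := dvd_pow h (by omega)
  have h6 : 1 ≤ q ^ (i + 1) := Nat.one_le_pow _ _ (by omega)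
  have h7 : p ∣ 1 := by
    unfold H948.UProd.ph at hd
    split_ifs at hd
    · exact (Nat.dvd_add_right h5).1 hd
    · have h8 := Nat.dvd_sub h5 hd
      have h9 : q ^ (i + 1) - (q ^ (i + 1) - 1) = 1 := by omega
      rwa [h9] at h8
  exact hp.one_lt.ne' (Nat.dvd_one.1 h7)

section

variable {K : Type} [Field K] [Fintype K] {q₀ m : ℕ}

/-- `q ≤ q₀`, and the `p`-parts -/
theorem psu_dvd (hC : Core P) (p : ℕ) [hp : Fact p.Prime] [CharP F p] [CharP K p] (hF : Fintype.card F = q ^ 2)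
    (hP : P ≤ GU n F q) (hK : Fintype.card K = q₀ ^ 2) (hm : 3 ≤ m) (h32 : ¬ (m = 3 ∧ q₀ = 2))
    (e : Soc P ≃* PSU m K q₀) :
    2 ≤ q ∧ q ≤ q₀ ∧ q₀ ^ (m * (m - 1) / 2) ∣ q ^ (n * (n - 1) / 2) := by
  have hq2 := two_le_of_sq hF
  have hq2' := two_le_of_sq hK
  obtain ⟨p', b, hp', hch, hqb, hb⟩ := LieClassical.HermBasic.exists_prime_pow hK
  obtain rfl : p' = p := CharP.eq K hch ‹_›
  obtain ⟨p'', a, hp'', hch', hqa, ha⟩ := LieClassical.HermBasic.exists_prime_pow hF
  obtain rfl : p'' = p' := CharP.eq F hch' ‹_›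
  have hpq : p'' ∣ q := by rw [hqa]; exact dvd_pow_self _ ha.ne'
  have hpq' : p'' ∣ q₀ := by rw [hqb]; exact dvd_pow_self _ hb.ne'
  have hcj := psu_cj hC p'' hK hm h32 e
  have h1 : q ≤ q₀ := by
    have h2 : Fr P (p'' ^ (2 * b)) := by
      have h3 := hcj.fr
      rw [hqb, ← pow_add, ← two_mul] at h3
      exact h3
    have h3 := hC.card_le p'' (by omega) h2
    rw [hF, two_mul, pow_add, ← hqb, ← pow_two] at h3
    exact (Nat.pow_le_pow_iff_left (by norm_num)).1 h3
  refine ⟨hq2, h1, ?_⟩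
  obtain ⟨φ, hφ, hk, -⟩ := psu_cover p'' hK hm h32 hC.perfect e
  have hfin : Finite (SU m K q₀) := inferInstance
  have h2 : Nat.card (SU m K q₀) = Nat.card φ.ker * Nat.card P := by
    rw [Subgroup.card_eq_card_quotient_mul_card_subgroup φ.ker,
      Nat.card_congr (QuotientGroup.quotientKerEquivRange φ).toEquiv, hφ, mul_comm]
  have hn : 1 ≤ n := by
    have := hC.two_le
    rw [Fintype.card_fin] at this
    omega
  have h3 : Nat.card P ∣ Nat.card (SU n F q) :=
    Subgroup.card_dvd_of_injective (toSU hC hP) (toSU_injective hC hP)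
  have hkc : (Nat.card φ.ker).Coprime q₀ := by
    have h4 : Nat.card φ.ker ∣ q₀ + 1 := by
      refine (Subgroup.card_dvd_of_le hk).trans ?_
      rw [Cfsg.Agent.S0279.result hK m hm]
      exact Nat.gcd_dvd_right _ _
    refine Nat.Coprime.coprime_dvd_left h4 ?_
    rw [Nat.coprime_self_add_left]
    exact Nat.coprime_one_left _
  rw [H948.UProd.card_SU hK (by omega)] at h2
  rw [H948.UProd.card_SU hF hn] at h3
  have h4 : q₀ ^ (m * (m - 1) / 2) ∣ Nat.card P := by
    refine (Nat.Coprime.pow_left _ hkc.symm).dvd_of_dvd_mul_left ?_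
    rw [← h2]
    exact Dvd.intro _ rfl
  refine Nat.Coprime.dvd_of_dvd_mul_right ?_ (h4.trans h3)
  refine Nat.Coprime.prod_right fun j _ => ?_
  apply Nat.Coprime.pow_left
  rw [hqb]
  exact Nat.Coprime.pow_left _ (ph_coprime hp.out hpq hq2)

theorem tri_lt {m n : ℕ} (h : n < m) : n * (n - 1) / 2 < m * (m - 1) / 2 ∨ m ≤ 1 := by
  rcases Nat.lt_or_ge 1 m with h1 | h1
  · left
    have h2 : n * (n - 1) / 2 = ∑ i ∈ Finset.range n, i := (Finset.sum_range_id n).symm
    have h3 : m * (m - 1) / 2 = ∑ i ∈ Finset.range m, i := (Finset.sum_range_id m).symm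
    rw [h2, h3]
    obtain ⟨k, rfl⟩ : ∃ k, m = k + 1 := ⟨m - 1, by omega⟩
    rw [Finset.sum_range_succ]
    have h4 : ∑ i ∈ Finset.range n, i ≤ ∑ i ∈ Finset.range k, i :=
      Finset.sum_le_sum_of_subset (Finset.range_mono (by omega))
    omega
  · exact Or.inr h1

/-- `q ≤ q₀` and `m ≤ n` -/
theorem psu_le (hC : Core P) (p : ℕ) [hp : Fact p.Prime] [CharP F p] [CharP K p] (hF : Fintype.card F = q ^ 2)
    (hP : P ≤ GU n F q) (hK : Fintype.card K = q₀ ^ 2) (hm : 3 ≤ m) (h32 : ¬ (m = 3 ∧ q₀ = 2))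
    (e : Soc P ≃* PSU m K q₀) : q ≤ q₀ ∧ m ≤ n := by
  obtain ⟨h1, h2, h3⟩ := psu_dvd hC p hF hP hK hm h32 e
  refine ⟨h2, ?_⟩
  by_contra hlt
  push Not at hlt
  rcases tri_lt hlt with h4 | h4
  · have h5 := Nat.le_of_dvd (pow_pos (by omega) _) h3
    have h6 : q ^ (n * (n - 1) / 2) ≤ q₀ ^ (n * (n - 1) / 2) := Nat.pow_le_pow_left h2 _
    have h7 : q₀ ^ (n * (n - 1) / 2) < q₀ ^ (m * (m - 1) / 2) := Nat.pow_lt_pow_right (by omega) h4
    omega
  · omega

/-- **Recognition of `SU(n, q)`.** -/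
theorem psu_eq (hC : Core P) (p : ℕ) [hp : Fact p.Prime] [CharP F p] [CharP K p] (hF : Fintype.card F = q ^ 2)
    (hP : P ≤ GU n F q) (hK : Fintype.card K = q₀ ^ 2) (hm : 3 ≤ m) (h32 : ¬ (m = 3 ∧ q₀ = 2))
    (e : Soc P ≃* PSU m K q₀) (hmn : m = n) : q = q₀ ∧ P = GU n F q ⊓ specialLinear (Fin n) F := by
  obtain ⟨h1, h2, h3⟩ := psu_dvd hC p hF hP hK hm h32 e
  subst hmn
  have h4 : q₀ ≤ q := by
    rw [Nat.pow_dvd_pow_iff] at h3
    · exact Nat.le_of_dvd (by omega) h3
    · have h5 : 3 * 2 ≤ m * (m - 1) := Nat.mul_le_mul hm (by omega)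
      omega
  obtain rfl : q = q₀ := le_antisymm h2 h4
  refine ⟨rfl, ?_⟩
  have hfinX : Finite (SU m F q) := inferInstance
  have hS : commutator (SU m F q) = ⊤ := GpUn.perfect_SU hF hm h32
  have eKF : K ≃+* F := FiniteField.ringEquivOfCardEq (by rw [hF, hK])
  let j := toSU hC hP
  let π : SU m F q →* PSU m F q := QuotientGroup.mk' _
  have hker : (π.comp j).ker = (scalars (Fin m) F).subgroupOf P := by
    ext g
    have h6 : (π.comp j) g = 1 ↔ j g ∈ Subgroup.center (SU m F q) := QuotientGroup.eq_one_iff _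
    rw [MonoidHom.mem_ker, h6]
    constructor
    · intro h
      have hg : ∀ x : P, x * g = g * x := by
        intro x
        apply toSU_injective hC hP
        rw [map_mul, map_mul]
        exact Subgroup.mem_center_iff.1 h (toSU hC hP x)
      rw [Subgroup.mem_subgroupOf, mem_scalars_iff]
      obtain ⟨c, hc⟩ := hC.absIrred.2 ((g : GL (Fin m) F) : Matrix (Fin m) (Fin m) F) (by
        rintro _ ⟨x, hx, rfl⟩
        have h7 := congrArg (fun z : P => ((z : GL (Fin m) F) : Matrix (Fin m) (Fin m) F)) (hg ⟨x, hx⟩)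
        exact h7.symm)
      have hc0 : c ≠ 0 := by
        rintro rfl
        rw [zero_smul] at hc
        have h8 : ((g : GL (Fin m) F)⁻¹ : GL (Fin m) F).1 * ((g : GL (Fin m) F) : Matrix (Fin m) (Fin m) F) = 1 := by
          rw [← Units.val_mul, inv_mul_cancel, Units.val_one]
        rw [hc, Matrix.mul_zero] at h8
        have h9 := congrFun (congrFun h8 ⟨0, by omega⟩) ⟨0, by omega⟩
        rw [Matrix.one_apply_eq] at h9
        exact zero_ne_one h9
      exact ⟨Units.mk0 c hc0, hc⟩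
    · intro h
      rw [Subgroup.mem_center_iff]
      intro y
      have h7 := (mem_scalars_iff _).1 (Subgroup.mem_subgroupOf.1 h)
      obtain ⟨c, hc⟩ := h7
      apply Subtype.ext
      apply Subtype.ext
      change y.1.1 * ((g : GL (Fin m) F) : Matrix (Fin m) (Fin m) F) =
        ((g : GL (Fin m) F) : Matrix (Fin m) (Fin m) F) * y.1.1
      rw [hc, Matrix.mul_smul, Matrix.smul_mul, Matrix.mul_one, Matrix.one_mul]
  have hsurj : Function.Surjective (π.comp j) := by
    have hfinQ : Finite (PSU m F q) := inferInstance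
    have h6 := QuotientGroup.kerLift_injective (π.comp j)
    have h7 : Function.Bijective (QuotientGroup.kerLift (π.comp j)) :=
      (Nat.bijective_iff_injective_and_card _).2 ⟨h6, by
        rw [hker, Nat.card_congr e.toEquiv]
        exact Nat.card_congr (LieClassical.FieldTransfer.psuCongr m q eKF).toEquiv⟩
    intro y
    obtain ⟨x, rfl⟩ := h7.2 y
    obtain ⟨g, rfl⟩ := QuotientGroup.mk_surjective x
    exact ⟨g, rfl⟩
  have htop : j.range = ⊤ := by
    refine top_of_sup_center hS (N := Subgroup.center (SU m F q)) le_rfl ?_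
    rw [eq_top_iff]
    intro x _
    obtain ⟨a, ha⟩ := hsurj (π x)
    have ha' : (j a)⁻¹ * x ∈ Subgroup.center (SU m F q) := QuotientGroup.eq.1 ha
    have h1 : x = j a * ((j a)⁻¹ * x) := by group
    rw [h1]
    exact mul_mem (Subgroup.mem_sup_left ⟨a, rfl⟩) (Subgroup.mem_sup_right ha')
  apply le_antisymm
  · exact le_inf hP hC.le_sl
  · rintro g ⟨hg1, hg2⟩
    have h8 : (g : Matrix (Fin m) (Fin m) F).det = 1 := by
      have : Matrix.GeneralLinearGroup.det g = 1 := hg2
      exact congrArg Units.val this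
    obtain ⟨y, hy⟩ : (⟨⟨g.1, h8⟩, fun u v => hg1 u v⟩ : SU m F q) ∈ j.range := by rw [htop]; trivial
    have h9 : ((y : GL (Fin m) F) : Matrix (Fin m) (Fin m) F) = g := congrArg (fun z : SU m F q => z.1.1) hy
    have h10 : (y : GL (Fin m) F) = g := Units.ext h9
    rw [← h10]
    exact y.2

end

end Cfsg.Agent.H48.NatSU
end

-- part: H879/TL/Reindex
section
set_option linter.all false
open scoped Cfsg.Agent.FastGrp

/-!
# Reindexing cores (helper879)

`e : ι ≃ κ`, `P ≤ GL ι F`: `P.map (glReindex e)` is a core of `GL κ F` with the same socle, traces, invariant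
quadratic forms.
-/

set_option autoImplicit false
set_option linter.unusedSectionVars false

namespace Cfsg.Agent.H879.Rx

open Matrix Cfsg Cfsg.Geo Cfsg.Agent.H915.LD

universe u

variable {ι κ : Type} [Fintype ι] [DecidableEq ι] [Fintype κ] [DecidableEq κ] {F : Type u} [Field F]
  (e : ι ≃ κ) {P : Subgroup (GL ι F)}

/-- the reindexed group -/
def rx (P : Subgroup (GL ι F)) : Subgroup (GL κ F) := P.map (glReindex e).toMonoidHom

theorem coe_re (g : GL ι F) : ((glReindex e g : GL κ F) : Matrix κ κ F) = Matrix.reindex e e (g : Matrix ι ι F) := rfl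

theorem re_mulVec (M : Matrix ι ι F) (v : ι → F) :
    Matrix.reindex e e M *ᵥ (v ∘ e.symm) = (M *ᵥ v) ∘ e.symm := by
  rw [Matrix.reindex_apply]
  have := Matrix.submatrix_mulVec_equiv M (v ∘ e.symm) e.symm e.symm
  rw [this]
  congr 2
  funext i
  simp

theorem re_mul (M N : Matrix ι ι F) : Matrix.reindex e e (M * N) = Matrix.reindex e e M * Matrix.reindex e e N := by
  simp only [Matrix.reindex_apply, Matrix.submatrix_mul_equiv]

theorem matrixSet_rx : matrixSet (rx e P) = (Matrix.reindex e e) '' matrixSet P := by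
  ext M
  constructor
  · rintro ⟨_, ⟨g, hg, rfl⟩, rfl⟩
    exact ⟨_, ⟨g, hg, rfl⟩, rfl⟩
  · rintro ⟨_, ⟨g, hg, rfl⟩, rfl⟩
    exact ⟨_, ⟨g, hg, rfl⟩, rfl⟩

theorem scalar_re {g : GL ι F} : glReindex e g ∈ scalars κ F ↔ g ∈ scalars ι F := by
  rw [mem_scalars_iff, mem_scalars_iff]
  refine exists_congr fun c => ?_
  rw [coe_re]
  constructor
  · intro h
    apply (Matrix.reindex e e).injective
    rw [h]
    ext i j
    simp [Matrix.one_apply]
  · intro h
    rw [h]
    ext i j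
    simp [Matrix.one_apply]

/-- the isomorphism `P ≃ rx P` -/
noncomputable def eqv (P : Subgroup (GL ι F)) : P ≃* rx e P :=
  P.equivMapOfInjective (glReindex e).toMonoidHom (glReindex e).injective

theorem eqv_coe (g : P) : ((eqv e P g : rx e P) : GL κ F) = glReindex e g := rfl

theorem map_scalars : ((scalars ι F).subgroupOf P).map (eqv e P).toMonoidHom = (scalars κ F).subgroupOf (rx e P) := by
  ext x
  constructor
  · rintro ⟨g, hg, rfl⟩
    rw [SetLike.mem_coe, Subgroup.mem_subgroupOf] at hg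
    rw [Subgroup.mem_subgroupOf]
    exact (scalar_re e).2 hg
  · intro hx
    rw [Subgroup.mem_subgroupOf] at hx
    refine ⟨(eqv e P).symm x, ?_, (eqv e P).apply_symm_apply x⟩
    rw [SetLike.mem_coe, Subgroup.mem_subgroupOf, ← scalar_re e, ← eqv_coe, (eqv e P).apply_symm_apply]
    exact hx

/-- the socles are isomorphic -/
noncomputable def socEqv (P : Subgroup (GL ι F)) : Soc P ≃* Soc (rx e P) :=
  QuotientGroup.congr _ _ (eqv e P) (map_scalars e)

theorem rx_symm (P : Subgroup (GL ι F)) : rx e.symm (rx e P) = P := by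
  ext g
  constructor
  · rintro ⟨_, ⟨h, hh, rfl⟩, rfl⟩
    have : (glReindex e.symm).toMonoidHom ((glReindex e).toMonoidHom h) = h := by
      apply Units.ext
      change Matrix.reindex e.symm e.symm (Matrix.reindex e e (h : Matrix ι ι F)) = h
      ext i j
      simp
    rw [this]
    exact hh
  · intro hg
    refine ⟨_, ⟨g, hg, rfl⟩, ?_⟩
    apply Units.ext
    change Matrix.reindex e.symm e.symm (Matrix.reindex e e (g : Matrix ι ι F)) = g
    ext i j
    simp

theorem absIrred_rx (h : ActsAbsolutelyIrreducibly (matrixSet P)) : ActsAbsolutelyIrreducibly (matrixSet (rx e P)) := by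
  rw [matrixSet_rx]
  constructor
  · intro W hW
    let L : (ι → F) ≃ₗ[F] (κ → F) := LinearEquiv.funCongrLeft F F e.symm
    have hL : ∀ v, L v = v ∘ e.symm := fun v => rfl
    have h1 := h.1 (W.comap L.toLinearMap) (by
      intro s hs
      rintro _ ⟨v, hv, rfl⟩
      have h2 := hW _ ⟨s, hs, rfl⟩ ⟨L v, hv, rfl⟩
      rw [Matrix.toLin'_apply, hL, re_mulVec] at h2
      exact h2)
    rcases h1 with h1 | h1
    · left
      rw [Submodule.eq_bot_iff]
      intro w hw
      have : L.symm w ∈ W.comap L.toLinearMap := by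
        change L (L.symm w) ∈ W
        rwa [L.apply_symm_apply]
      rw [h1, Submodule.mem_bot] at this
      rw [← L.apply_symm_apply w, this, map_zero]
    · right
      rw [eq_top_iff]
      intro w _
      have : L.symm w ∈ W.comap L.toLinearMap := by rw [h1]; trivial
      change L (L.symm w) ∈ W at this
      rwa [L.apply_symm_apply] at this
  · intro M hM
    obtain ⟨c, hc⟩ := h.2 (Matrix.reindex e.symm e.symm M) (by
      intro s hs
      have h2 := hM _ ⟨s, hs, rfl⟩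
      have h3 := congrArg (Matrix.reindex e.symm e.symm) h2
      rw [re_mul, re_mul] at h3
      have h4 : Matrix.reindex e.symm e.symm (Matrix.reindex e e s) = s := by ext i j; simp
      rwa [h4] at h3)
    refine ⟨c, ?_⟩
    have h4 : M = Matrix.reindex e e (Matrix.reindex e.symm e.symm M) := by ext i j; simp
    rw [h4, hc]
    ext i j
    simp [Matrix.one_apply]

theorem realisable_rx {F₀ : Subfield F} (h : RealisableOver F₀ (matrixSet P)) :
    RealisableOver F₀ (matrixSet (rx e P)) := by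
  obtain ⟨B, hB⟩ := h
  refine ⟨glReindex e B, ?_⟩
  rw [matrixSet_rx]
  rintro _ ⟨s, hs, rfl⟩ i j
  have h1 : ((glReindex e B : GL κ F) : Matrix κ κ F) * Matrix.reindex e e s *
      (((glReindex e B)⁻¹ : GL κ F) : Matrix κ κ F) = Matrix.reindex e e ((B : Matrix ι ι F) * s * ((B⁻¹ : GL ι F) : Matrix ι ι F)) := by
    rw [← map_inv, coe_re, coe_re, re_mul, re_mul]
  rw [h1]
  exact hB s hs _ _

theorem core_rx (hC : Core P) : Core (rx e P) where
  perfect := by
    unfold rx
    rw [← Subgroup.map_commutator, hC.perfect]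
  simple := by
    have := hC.simple
    exact (socEqv e P).symm.isSimpleGroup
  nonabelian := by
    intro h
    apply hC.nonabelian
    refine ⟨⟨fun a b => ?_⟩⟩
    apply (socEqv e P).injective
    rw [map_mul, map_mul]
    exact h.is_comm.comm _ _
  absIrred := absIrred_rx e hC.absIrred
  no_subfield := by
    intro F₀ hF₀ h
    refine hC.no_subfield F₀ hF₀ ?_
    have := realisable_rx e.symm h
    rwa [rx_symm] at this

theorem trace_re (g : GL ι F) : tr (glReindex e g) = tr g := by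
  unfold tr
  rw [coe_re]
  simp only [Matrix.trace, Matrix.diag_apply, Matrix.reindex_apply, Matrix.submatrix_apply]
  exact Equiv.sum_comp e.symm (fun i => (g : Matrix ι ι F) i i)

theorem sd_rx (h : SD P) : SD (rx e P) := by
  rintro _ ⟨g, hg, rfl⟩
  change tr ((glReindex e g)⁻¹) = tr (glReindex e g)
  rw [← map_inv, trace_re, trace_re, h g hg]

theorem fixQ_rx (h : FixQ P) : FixQ (rx e P) := by
  obtain ⟨Q, hQ, hP⟩ := h
  refine ⟨fun v => Q (v ∘ e), ⟨?_, ?_, ?_⟩, ?_⟩
  · intro c v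
    exact hQ.smul c (v ∘ e)
  · constructor
    · intro x y v; exact hQ.polar_bilinear.add_left _ _ _
    · intro c x v; exact hQ.polar_bilinear.smul_left c _ _
    · intro v x y; exact hQ.polar_bilinear.add_right _ _ _
    · intro c v x; exact hQ.polar_bilinear.smul_right c _ _
  · intro v hv
    have hv' : v ∘ e ≠ 0 := by
      intro h0
      apply hv
      funext k
      have := congrFun h0 (e.symm k)
      simpa using this
    obtain ⟨⟨x, hx⟩, ⟨y, hy⟩⟩ := hQ.nondegenerate _ hv'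
    refine ⟨⟨x ∘ e.symm, ?_⟩, ⟨y ∘ e.symm, ?_⟩⟩
    · intro h0
      apply hx
      rw [← h0]
      simp only [QuadraticMap.polar]
      congr 2 <;> (try congr 1) <;> (try (funext i; simp))
    · intro h0
      apply hy
      rw [← h0]
      simp only [QuadraticMap.polar]
      congr 2 <;> (try congr 1) <;> (try (funext i; simp))
  · rw [matrixSet_rx]
    rintro _ ⟨s, hs, rfl⟩ v
    have h1 := re_mulVec e s (v ∘ e)
    have h2 : (v ∘ e) ∘ e.symm = v := by funext i; simp
    rw [h2] at h1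
    change Q ((Matrix.reindex e e s *ᵥ v) ∘ e) = Q (v ∘ e)
    rw [h1]
    have h3 : ((s *ᵥ (v ∘ e)) ∘ e.symm) ∘ e = s *ᵥ (v ∘ e) := by funext i; simp
    rw [h3]
    exact hP s hs _

end Cfsg.Agent.H879.Rx
end

-- part: H879/Nine/Ctx
section
set_option linter.all false
open scoped Cfsg.Agent.FastGrp

/-!
# Maximal subgroups of `Ω₉(q)` in the residual class: the setting (helper879)

`Ctx p Q H P` : `H` is maximal in `Ω(Q)`, `dim = 9`, `char F = p` odd, `P` a residual core of `H`.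
Consequences: `core`, `fixQ`, `sd`, `bot` (no scalars), `soc : P ≃* Soc P`.
-/

set_option autoImplicit false
set_option linter.unusedSectionVars false

namespace Cfsg.Agent.H879.Nine

open Matrix Cfsg Cfsg.Geo Cfsg.Agent.H915.LD Cfsg.Agent.LieClassical.OrthCore

universe u

variable {ι : Type} [Fintype ι] [DecidableEq ι] {F : Type u} [Field F]

/-- elements of `Ω(Q)` are isometries -/
theorem isometry_of_mem {Q : (ι → F) → F} {g : GL ι F} (hg : g ∈ omegaGL Q) (v : ι → F) :
    Q ((g : Matrix ι ι F) *ᵥ v) = Q v := by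
  obtain ⟨x, -, rfl⟩ := hg
  exact x.2 v v

/-- a fixed non-degenerate bilinear form gives real traces -/
theorem sd_of_form {P : Subgroup (GL ι F)} {f : (ι → F) → (ι → F) → F} (hf : IsBilinearForm f)
    (hn : IsNondegenerateForm f) (hfix : FixesForm (matrixSet P) f) : SD P := by
  let B : (ι → F) →ₗ[F] (ι → F) →ₗ[F] F := LinearMap.mk₂ F f hf.add_left (fun c x y => hf.smul_left c x y)
    (fun x y z => hf.add_right x y z) (fun c x y => hf.smul_right c x y)
  have hB : ∀ a b, B a b = f a b := fun a b => rfl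
  set M : Matrix ι ι F := LinearMap.toMatrix₂' F B with hM
  have hf' : ∀ a b, f a b = a ⬝ᵥ M *ᵥ b := by
    intro a b
    rw [← Matrix.toLinearMap₂'_apply', hM, Matrix.toLinearMap₂'_toMatrix', hB]
  have hinv : ∀ g ∈ P, (g : Matrix ι ι F)ᵀ * M * (g : Matrix ι ι F) = M := by
    intro g hg
    have h1 : B.compl₁₂ (Matrix.toLin' (g : Matrix ι ι F)) (Matrix.toLin' (g : Matrix ι ι F)) = B := by
      apply LinearMap.ext₂
      intro a b
      rw [LinearMap.compl₁₂_apply, hB, hB, Matrix.toLin'_apply, Matrix.toLin'_apply]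
      exact hfix _ ⟨g, hg, rfl⟩ a b
    have h2 := LinearMap.toMatrix₂'_compl₁₂ (R := F) B (Matrix.toLin' (g : Matrix ι ι F))
      (Matrix.toLin' (g : Matrix ι ι F))
    rw [h1, LinearMap.toMatrix'_toLin'] at h2
    exact h2.symm
  have hdet : M.det ≠ 0 := by
    intro h0
    obtain ⟨v, hv, hv0⟩ := Matrix.exists_mulVec_eq_zero_iff.2 h0
    obtain ⟨⟨x, hx⟩, -⟩ := hn v hv
    apply hx
    rw [hf', hv0, dotProduct_zero]
  have hU : IsUnit M := (Matrix.isUnit_iff_isUnit_det M).2 hdet.isUnit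
  obtain ⟨u, hu⟩ := hU
  intro g hg
  have h1 := hinv g hg
  have h3 : (g : Matrix ι ι F)ᵀ = u.val * ((g⁻¹ : GL ι F) : Matrix ι ι F) * u⁻¹.val := by
    rw [hu.symm] at h1
    have h4 : (g : Matrix ι ι F)ᵀ * u.val = u.val * ((g⁻¹ : GL ι F) : Matrix ι ι F) := by
      have h5 : (g : Matrix ι ι F) * ((g⁻¹ : GL ι F) : Matrix ι ι F) = 1 := by
        rw [← Units.val_mul, mul_inv_cancel, Units.val_one]
      calc (g : Matrix ι ι F)ᵀ * u.val = (g : Matrix ι ι F)ᵀ * u.val * ((g : Matrix ι ι F) *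
            ((g⁻¹ : GL ι F) : Matrix ι ι F)) := by rw [h5, Matrix.mul_one]
        _ = ((g : Matrix ι ι F)ᵀ * u.val * (g : Matrix ι ι F)) * ((g⁻¹ : GL ι F) : Matrix ι ι F) := by
            simp only [Matrix.mul_assoc]
        _ = _ := by rw [h1]
    rw [← h4, Matrix.mul_assoc, ← Units.val_mul, mul_inv_cancel, Units.val_one, Matrix.mul_one]
  unfold tr
  rw [← Matrix.trace_transpose (g : Matrix ι ι F), h3, Matrix.mul_assoc, Matrix.trace_mul_comm, Matrix.mul_assoc,
    ← Units.val_mul, inv_mul_cancel, Units.val_one, Matrix.mul_one]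

theorem fixesForm_polar {P : Subgroup (GL ι F)} {Q : (ι → F) → F} (h : FixesQuadForm (matrixSet P) Q) :
    FixesForm (matrixSet P) (QuadraticMap.polar Q) := by
  intro s hs v w
  unfold QuadraticMap.polar
  rw [← Matrix.mulVec_add, h s hs, h s hs, h s hs]

theorem sd_of_fixQ {P : Subgroup (GL ι F)} (h : FixQ P) : SD P := by
  obtain ⟨Q, hQ, hP⟩ := h
  exact sd_of_form hQ.polar_bilinear hQ.nondegenerate (fixesForm_polar hP)

/-- The setting. -/
structure Ctx [Fintype F] (p : ℕ) (Q : QuadraticForm F (ι → F)) (H P : Subgroup (GL ι F)) : Prop where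
  prime : p.Prime
  charP : CharP F p
  two : (2 : F) ≠ 0
  nine : Fintype.card ι = 9
  nd : Nondeg Q
  max : IsMaximalIn (omegaGL (Q : (ι → F) → F)) H
  res : IsResidualCore H P

namespace Ctx

variable [Fintype F] {p : ℕ} {Q : QuadraticForm F (ι → F)} {H P : Subgroup (GL ι F)} (c : Ctx p Q H P)
include c

theorem core : Core P := core_of_residual c.res

theorem ne_two : p ≠ 2 := by
  rintro rfl
  have := c.charP
  exact c.two (by exact_mod_cast CharP.cast_eq_zero F 2)

theorem ndf : IsNondegenerateQuadraticForm (Q : (ι → F) → F) := H883.Bridge.isNondegenerateQuadraticForm c.nd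

theorem fixes : FixesQuadForm (matrixSet P) (Q : (ι → F) → F) := by
  rintro _ ⟨g, hg, rfl⟩ v
  exact isometry_of_mem (c.max.1.le (c.res.le hg)) v

theorem fixQ : FixQ P := ⟨Q, c.ndf, c.fixes⟩

theorem sd : SD P := sd_of_fixQ c.fixQ

theorem bot : (scalars ι F).subgroupOf P = ⊥ :=
  TL.scalars_bot_of_odd c.core c.fixQ (by rw [c.nine]; decide)

/-- `P` is simple -/
noncomputable def soc : P ≃* Soc P := TL.socEquiv c.bot

theorem finite_P : Finite P := inferInstance

end Ctx

end Cfsg.Agent.H879.Nine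
end

-- part: H879/Nine/RowPSU
section
set_option linter.all false
open scoped Cfsg.Agent.FastGrp

/-!
# `PSU_m(q)`, `m ≥ 5`, defining characteristic, self-dual, dimension at most 9: impossible (helper879)

`tr g⁻¹ = tr g ^ q₀` and `tr g⁻¹ = tr g` give `|F| = p^f`, `f ∣ b`, `q₀ = p^b`; a primitive prime divisor of `p^{10 b} - 1`
divides `|P|` but not `|GL_9(F)|`.
-/

set_option autoImplicit false
set_option linter.unusedSectionVars false

namespace Cfsg.Agent.H879.Nine

open Matrix Cfsg Cfsg.Geo Cfsg.Agent.H915.LD Cfsg.Agent.H48.NatSU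

universe u v

variable {F : Type u} [Field F] [Fintype F]

/-- a prime `r` with `ord_r p = d` does not divide `|GL_n(p^f)|` if `f n < d` -/
theorem not_dvd_card_GL {p r f n d : ℕ} (hr : r.Prime) (ho : orderOf (p : ZMod r) = d) (hrp : ¬ r ∣ p) (hf : 0 < f)
    (hF : Fintype.card F = p ^ f) (hlt : f * n < d) : ¬ r ∣ Nat.card (GL (Fin n) F) := by
  have := Fact.mk hr
  rw [Matrix.card_GL_field, hF]
  intro h
  rw [Prime.dvd_finset_prod_iff hr.prime] at h
  obtain ⟨i, -, hi⟩ := h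
  have hin := i.2
  have h1 : (p ^ f) ^ n - (p ^ f) ^ (i : ℕ) = (p ^ f) ^ (i : ℕ) * ((p ^ f) ^ (n - i) - 1) := by
    rw [Nat.mul_sub, mul_one, ← pow_add]
    congr 2
    omega
  rw [h1, hr.dvd_mul] at hi
  rcases hi with hi | hi
  · exact hrp (hr.dvd_of_dvd_pow (hr.dvd_of_dvd_pow hi))
  · have hp0 : 0 < p := by
      rcases Nat.eq_zero_or_pos p with rfl | h
      · exact absurd (dvd_zero r) hrp
      · exact h
    rw [← pow_mul] at hi
    have h2 : (p : ZMod r) ^ (f * (n - i)) = 1 := by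
      have h3 : ((p ^ (f * (n - i)) - 1 : ℕ) : ZMod r) = 0 := (ZMod.natCast_eq_zero_iff _ _).2 hi
      rw [Nat.cast_sub (Nat.one_le_pow _ _ hp0), sub_eq_zero] at h3
      push_cast at h3
      exact h3
    have h4 := orderOf_dvd_of_pow_eq_one h2
    rw [ho] at h4
    have h5 := Nat.le_of_dvd (Nat.mul_pos hf (by omega)) h4
    have h6 : f * (n - i) ≤ f * n := Nat.mul_le_mul_left f (by omega)
    omega

theorem own_psu {p : ℕ} [hp : Fact p.Prime] [CharP F p] {n : ℕ} (hn9 : n ≤ 9) {P : Subgroup (GL (Fin n) F)} (hC : Core P)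
    (hsd : SD P) {K : Type} [Field K] [Fintype K] [CharP K p] {m q : ℕ} (hm : 5 ≤ m) (hK : Fintype.card K = q ^ 2)
    (e : Soc P ≃* PSU m K q) : False := by
  have hcj := psu_cj hC p hK (by omega) (by omega) e
  obtain ⟨p', b, hp', hch, hq, hb⟩ := LieClassical.HermBasic.exists_prime_pow hK
  obtain rfl : p' = p := CharP.eq K hch ‹_›
  have hfr : Fr P (p' ^ b) := by rw [← hq]; exact Fr.of_sd_cj hsd hcj
  obtain ⟨f, hf, hF⟩ := FiniteField.card F p'
  -- `f ≤ b`
  have hfb : (f : ℕ) ≤ b := by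
    have h1 := hC.card_le p' hb.ne' hfr
    rw [hF] at h1
    exact (Nat.pow_le_pow_iff_right hp'.one_lt).1 h1
  obtain ⟨r, hr, ho⟩ := Cfsg.Agent.Lib.Zsigmondy.exists_prime_orderOf (a := p') (n := 10 * b) hp'.two_le (by omega)
    (fun h => by omega) (fun h => by omega)
  have := Fact.mk hr
  have hrp : ¬ r ∣ p' := by
    intro h
    have h1 : (p' : ZMod r) = 0 := (ZMod.natCast_eq_zero_iff _ _).2 h
    rw [h1, orderOf_zero] at ho
    omega
  have h1 : ¬ r ∣ Nat.card (GL (Fin n) F) :=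
    not_dvd_card_GL hr ho hrp f.pos hF (by
      calc (f : ℕ) * n ≤ b * 9 := Nat.mul_le_mul hfb hn9
        _ < 10 * b := by omega)
  apply h1
  obtain ⟨φ, hφ, hk, -⟩ := psu_cover p' hK (by omega) (by omega) hC.perfect e
  have hfin : Finite (SU m K q) := inferInstance
  have h2 : Nat.card (SU m K q) = Nat.card φ.ker * Nat.card P := by
    rw [Subgroup.card_eq_card_quotient_mul_card_subgroup φ.ker,
      Nat.card_congr (QuotientGroup.quotientKerEquivRange φ).toEquiv, hφ, mul_comm]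
  have hq2 : 2 ≤ q := two_le_of_sq hK
  -- orders
  have hord : ∀ k, r ∣ p' ^ k - 1 → 10 * b ∣ k := by
    intro k hk
    have h3 : ((p' ^ k - 1 : ℕ) : ZMod r) = 0 := (ZMod.natCast_eq_zero_iff _ _).2 hk
    rw [Nat.cast_sub (Nat.one_le_pow _ _ hp'.pos), sub_eq_zero] at h3
    push_cast at h3
    have h4 := orderOf_dvd_of_pow_eq_one h3
    rwa [ho] at h4
  have h10 : r ∣ q ^ 10 - 1 := by
    have h3 : (p' : ZMod r) ^ (10 * b) = 1 := by rw [← ho]; exact pow_orderOf_eq_one _
    have h4 : ((p' ^ (10 * b) - 1 : ℕ) : ZMod r) = 0 := by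
      rw [Nat.cast_sub (Nat.one_le_pow _ _ hp'.pos), sub_eq_zero]
      push_cast
      exact h3
    have h5 := (ZMod.natCast_eq_zero_iff _ _).1 h4
    rw [hq, ← pow_mul, mul_comm b 10]
    exact h5
  have h5 : r ∣ q ^ 5 + 1 := by
    have h3 : q ^ 10 - 1 = (q ^ 5 + 1) * (q ^ 5 - 1) := by
      have h4 := Nat.sq_sub_sq (q ^ 5) 1
      rw [← pow_mul, one_pow] at h4
      exact h4
    rw [h3, hr.dvd_mul] at h10
    rcases h10 with h10 | h10
    · exact h10
    · exfalso
      rw [hq, ← pow_mul] at h10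
      have := Nat.le_of_dvd (by omega) (hord _ h10)
      omega
  have hkc : ¬ r ∣ Nat.card φ.ker := by
    intro hd
    have h4 : Nat.card φ.ker ∣ q + 1 := by
      refine (Subgroup.card_dvd_of_le hk).trans ?_
      rw [Cfsg.Agent.S0279.result hK m (by omega)]
      exact Nat.gcd_dvd_right _ _
    have h6 : r ∣ q ^ 2 - 1 := by
      have h7 := Nat.sq_sub_sq q 1
      rw [one_pow] at h7
      rw [h7]
      exact (hd.trans h4).mul_right _
    rw [hq, ← pow_mul] at h6
    have := Nat.le_of_dvd (by omega) (hord _ h6)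
    omega
  have h6 : r ∣ Nat.card (SU m K q) := H948.UProd.dvd_card_SU hK (i := 4) (by omega) (by omega) (by
    unfold H948.UProd.ph
    rw [if_pos (by decide)]
    exact h5)
  rw [h2, hr.dvd_mul] at h6
  exact (h6.resolve_left hkc).trans (Subgroup.card_subgroup_dvd_card P)

end Cfsg.Agent.H879.Nine
end
end
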